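/-
Coset enumeration data, found by a computer search; checked by `decide +kernel`.
-/
import Cfsg.Agent.Lib.Spor.JThreeUnique.KillOne.Data

namespace CfsgLib.Spor.JThreeUnique.KillOne

open CfsgLib.Spor.TC

def rcodes0_0 : List ℕ :=
  [0x5997000010000090000100000700001000005000010000030000100000100001]

def rcodes0_ : List ℕ :=
  rcodes0_0

set_option maxRecDepth 100000 in
theorem rows0 : cert.RowsOK 11468 1 0 1 :=
  Cert.RowsOK.of_check _ (codes := rcodes0_) (by decide +kernel)

end CfsgLib.Spor.JThreeUnique.KillOne
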